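import Cfsg.Agent.H892.EP.TM

/-!
# S4929, piece EVEN: groups with a root group datum in characteristic 2

`ev_even_aux` : `HasTM 2 m Y → Ev Y` from the pieces EA (`even_par`) and EB (`even_exists`).
-/

set_option autoImplicit false

open Cfsg Cfsg.Agent.Characters.Core Cfsg.Agent.H892.EP
open CoxeterSystem Cfsg.Agent.ChevalleyStructure.CoxeterGeom Cfsg.Agent.Tits.Roots Cfsg.Agent.Tits.Core
  Cfsg.Agent.Nodes.Reps Cfsg.Agent.Nodes.BNOf Cfsg.Agent.Omega.EH3.Kf.Lev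

namespace Cfsg.Agent.H269.EP

universe u

/-- the statement of EA for `Fin l`, the Coxeter group of a Coxeter matrix -/
def EAStmt (Y : Type u) [Group Y] : Prop :=
  ∀ (l : ℕ) (M : CoxeterMatrix (Fin l)) (A : Fin l → Fin l → ℤ) (h : IsCartan M A) (T : Subgroup Y) (n : Fin l → Y)
    (X : (Fin l → ℤ) → Subgroup Y), Finite M.Group → RGD M.toCoxeterSystem h 2 T n X →
      Nodes.RGDLib.G1 M.toCoxeterSystem h X = ⊤ → CommGen M.toCoxeterSystem h X →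
      ∀ χ : IrrCharacter Y, χ ≠ oneChar Y → ∑ᶠ b : ↥(RGD.B M.toCoxeterSystem h T X), (χ : Y → ℂ) b ≠ 0 →
        2 ∣ charDegree (χ : Y → ℂ)

/-- the statement of EB for `Fin l`, the Coxeter group of a Coxeter matrix, characteristic 2 -/
def EBStmt (Y : Type u) [Group Y] : Prop :=
  ∀ (l : ℕ) (M : CoxeterMatrix (Fin l)) (A : Fin l → Fin l → ℤ) (h : IsCartan M A) (T : Subgroup Y) (n : Fin l → Y)
    (X : (Fin l → ℤ) → Subgroup Y), Finite M.Group → RGD M.toCoxeterSystem h 2 T n X →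
      Nodes.RGDLib.G1 M.toCoxeterSystem h X = ⊤ → (∀ a ∈ T, ∀ b ∈ T, a * b = b * a) →
      ∀ (p : ℕ) [Fact p.Prime], p ≠ 2 → p ∣ Nat.card Y →
        (p ∣ Nat.card T → ∃ i, ∃ t ∈ T, (∃ k : ℕ, t ^ p ^ k = 1) ∧ n i * t ≠ t * n i) →
        ∀ M' : Ideal AlgInt, IsPModular p M' →
          ∃ χ : IrrCharacter Y, χ ∈ principalBlock M' Y ∧ χ ≠ oneChar Y ∧
            ∑ᶠ b : ↥(RGD.B M.toCoxeterSystem h T X), (χ : Y → ℂ) b ≠ 0

/-- [EVEN] from EA and EB -/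
theorem ev_even_aux {Y : Type u} [Group Y] [Finite Y] (hEA : EAStmt Y) (hEB : EBStmt Y) {m : ℕ}
    (hTM : HasTM 2 m Y) : Ev Y := by
  obtain ⟨l, M, A, h, T, n, X, hW, R, hX, hT, h1, -, h3⟩ := hTM
  intro p hp hp2 hd M' hM
  have : Fact p.Prime := ⟨hp⟩
  obtain ⟨χ, hχ, hχ1, hχB⟩ := hEB l M A h T n X hW R hX hT p hp2 hd (fun hdT => h1 p hp hp2 hdT) M' hM
  exact ⟨χ, hχ, hEA l M A h T n X hW R hX (h3 rfl) χ hχ1 hχB⟩

end Cfsg.Agent.H269.EP
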