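import Cfsg.Agent.H269.EP.Even
import Cfsg.Agent.H274.EP.Even
import Cfsg.Agent.H966.EP.EB

/-!
# S4929, piece EVEN, complete

`ev_even` : `HasTM 2 m Y → Ev Y`, from `H274.EP.Even.even_par` and `H966.EP.EB.even_exists`.
-/

set_option autoImplicit false

open Cfsg Cfsg.Agent.H892.EP

namespace Cfsg.Agent.H269.EP

universe u

/-- **[EVEN]** -/
theorem ev_even {Y : Type u} [Group Y] [Finite Y] {m : ℕ} (hTM : HasTM 2 m Y) : Ev Y :=
  ev_even_aux
    (fun _ _ _ _ _ _ _ hW R hG hC χ h1 h2 => haveI := hW; H274.EP.even_par R hG hC χ h1 h2)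
    (fun _ _ _ _ _ _ _ hW R hG hT _ _ hp2 hd hmv _ hM =>
      haveI := hW
      haveI : Fact (Nat.Prime 2) := ⟨Nat.prime_two⟩
      H966.EP.even_exists R hG hT hp2 hp2 hd hmv hM) hTM

end Cfsg.Agent.H269.EP
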